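import Mathlib
import Cfsg.Agent.Prune
set_option linter.all false
prune_inst 0x7f00000000000000000000000000000000000000000000000000000000000000000000000000000000000000000000000000000000000000000000000000000000000000000000000000000000000000003fffffffffffffffffffffffffffbeffbdffffffff
open scoped Cfsg.Agent.FastGrp

/-!
# The 2-part of the centralizer of an element, from the involutions of the centralizer (helper26)

* `not_dvd_of_inv` : if `2 ^ k` (`k ≥ 1`) divides the order of no involution centralizer, it does not divide `|H|`;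
* `not_dvd_centralizer` : the same for `H = C(x)`;
* `dvd_of_not_dvd` : `n ∣ 2 ^ e * m`, `¬ 2 ^ (k + 1) ∣ n` ⟹ `n ∣ 2 ^ k * m`.
-/

set_option autoImplicit false

namespace Cfsg.Agent.CpAutFive

open Subgroup

theorem not_dvd_of_inv {H : Type*} [Group H] [Finite H] {k : ℕ} (hk : 1 ≤ k)
    (h : ∀ u : H, orderOf u = 2 → ¬ 2 ^ k ∣ Nat.card ↥(centralizer ({u} : Set H))) : ¬ 2 ^ k ∣ Nat.card H := by
  intro hd
  have : Fact (Nat.Prime 2) := ⟨Nat.prime_two⟩
  obtain ⟨T⟩ : Nonempty (Sylow 2 H) := inferInstance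
  have hT : 2 ^ k ∣ Nat.card ↥(T : Subgroup H) := T.pow_dvd_card_of_pow_dvd_card hd
  have h2 : 2 ∣ Nat.card ↥(T : Subgroup H) := (dvd_pow_self 2 (by omega)).trans hT
  have hnt : Nontrivial ↥(T : Subgroup H) := by
    rw [← Finite.one_lt_card_iff_nontrivial]
    have h3 : 0 < Nat.card ↥(T : Subgroup H) := Nat.card_pos
    exact lt_of_lt_of_le (by norm_num) (Nat.le_of_dvd h3 h2)
  have hc := T.isPGroup'.center_nontrivial
  obtain ⟨n, hn⟩ := IsPGroup.iff_card.1 (T.isPGroup'.to_subgroup (center ↥(T : Subgroup H)))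
  have hn0 : n ≠ 0 := by
    rintro rfl
    have := Finite.one_lt_card (α := center ↥(T : Subgroup H))
    rw [hn] at this
    simp at this
  obtain ⟨c, hc2⟩ := exists_prime_orderOf_dvd_card' (G := ↥(center ↥(T : Subgroup H))) 2
    (by rw [hn]; exact dvd_pow_self 2 hn0)
  have hu : orderOf (((c : ↥(T : Subgroup H)) : H)) = 2 := by
    rw [Subgroup.orderOf_coe, Subgroup.orderOf_coe, hc2]
  refine h _ hu (hT.trans (card_dvd_of_le ?_))
  intro t ht
  rw [mem_centralizer_singleton_iff]
  have h3 := mem_center_iff.1 c.2 ⟨t, ht⟩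
  exact congrArg Subtype.val h3

/-- the centralizer of `u` in the centralizer of `x` -/
theorem card_cent_cent {X : Type*} [Group X] [Finite X] {x : X} (u : ↥(centralizer ({x} : Set X))) :
    Nat.card ↥(centralizer ({u} : Set ↥(centralizer ({x} : Set X)))) =
      Nat.card ↥(centralizer ({x} : Set X) ⊓ centralizer ({(u : X)} : Set X)) := by
  refine Nat.card_congr
    { toFun := fun y => ⟨((y : ↥(centralizer ({x} : Set X))) : X), (y : ↥(centralizer ({x} : Set X))).2, ?_⟩
      invFun := fun y => ⟨⟨(y : X), y.2.1⟩, ?_⟩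
      left_inv := fun y => rfl
      right_inv := fun y => rfl }
  · exact mem_centralizer_singleton_iff.2 (congrArg Subtype.val (mem_centralizer_singleton_iff.1 y.2))
  · exact mem_centralizer_singleton_iff.2 (Subtype.ext (mem_centralizer_singleton_iff.1 y.2.2))

theorem not_dvd_centralizer {X : Type*} [Group X] [Finite X] {k : ℕ} (hk : 1 ≤ k) {x : X}
    (h : ∀ u : X, orderOf u = 2 → u * x = x * u →
      ¬ 2 ^ k ∣ Nat.card ↥(centralizer ({x} : Set X) ⊓ centralizer ({u} : Set X))) :
    ¬ 2 ^ k ∣ Nat.card ↥(centralizer ({x} : Set X)) := by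
  refine not_dvd_of_inv hk fun u hu => ?_
  rw [card_cent_cent]
  exact h u (by rw [Subgroup.orderOf_coe, hu]) (mem_centralizer_singleton_iff.1 u.2)

end Cfsg.Agent.CpAutFive
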